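import Cfsg.Agent.SuzukiBinary.Good

/-!
# Binary coset actions of the Suzuki group

The action on the cosets of a proper subgroup `H` is binary iff `H = 1` or `H` is the centre of a
Sylow 2-subgroup.
-/

set_option autoImplicit false
set_option linter.unusedSectionVars false

namespace CfsgLib.SuzukiBinary

open CfsgLib.Suzuki CfsgLib.SuzukiLocal CfsgLib.SuzukiCover CfsgLib.SuzukiSub
open CfsgLib.DicksonPSL2 (conjS mem_conjS card_conjS)
open CfsgLib.DicksonPSL2.Binary

local notation "SL4" F:max => Matrix.SpecialLinearGroup (Fin 4) F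

variable {F : Type*} [Field F] [Fintype F] {m : ℕ}

theorem ne_bot_of_mem {G : Type*} [Group G] {K : Subgroup G} {x : G} (hx : x ∈ K) (h : x ≠ 1) :
    K ≠ ⊥ := fun e => h (by rwa [e, Subgroup.mem_bot] at hx)

/-- An elementary abelian 2-subgroup has at most `q` elements. -/
theorem card_le_of_sq (hS : SzField F m) (E : Subgroup (Cfsg.Sz F m)) (h : ∀ e ∈ E, e * e = 1) :
    Nat.card E ≤ Fintype.card F := by
  rcases E.bot_or_exists_ne_one with rfl | ⟨x, hx, hx1⟩
  · rw [Subgroup.card_bot]; exact Fintype.card_pos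
  obtain ⟨k, c, hk⟩ := exists_conj_center hS (h x hx)
  have hne : uniEl hS 0 c ≠ 1 := by rwa [← hk, Ne, mul_inv_eq_one, mul_eq_left]
  rw [← card_conjS k E, ← card_uniCenter hS]
  refine Nat.le_of_dvd Nat.card_pos (Subgroup.card_dvd_of_le fun y hy => ?_)
  rw [mem_conjS] at hy
  set z := k⁻¹ * y * k
  have hy' : y = k * z * k⁻¹ := by simp only [z]; group
  have hcomm : z * x = x * z := by
    have h1 := h _ (mul_mem hy hx)
    calc z * x = (x * x) * (z * x) * (z * z) := by rw [h x hx, h z hy, one_mul, mul_one]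
      _ = x * (x * z * (x * z)) * z := by group
      _ = x * z := by rw [h _ (mul_mem hx hy), mul_one]
  obtain ⟨b, hb⟩ := mem_uniCenter_of_sq hS (g := y)
    (centralizer_uniEl_le hS hne (Subgroup.mem_centralizer_singleton_iff.2 (by
      rw [← hk, hy', show k * z * k⁻¹ * (k * x * k⁻¹) = k * (z * x) * k⁻¹ by group, hcomm]; group)))
    (by rw [hy', show k * z * k⁻¹ * (k * z * k⁻¹) = k * (z * z) * k⁻¹ by group, h z hy]; group)
  exact ⟨b, hb⟩

/-- A proper subgroup containing the centre of `U` fixes the point of `U`. -/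
theorem fix_infinity (hS : SzField F m) {H : Subgroup (Cfsg.Sz F m)} (hne : H ≠ ⊤)
    (hZ : uniCenter hS ≤ H) {g : Cfsg.Sz F m} (hg : g ∈ H) :
    (g : SL4 F) • Cfsg.suzukiPointInfinity F = Cfsg.suzukiPointInfinity F := by
  obtain ⟨A, hA⟩ := exists_tori hS
  rcases subgroup_cases hA H with ⟨p, hp⟩ | ⟨⟨i, c⟩, hle⟩ | ⟨k, l, hk, hdiv, e⟩
  · have h := hp (hZ (uniCenter_mem hS 1))
    have hp' := eq_infinity_of_uniEl_fix hS (uniEl_ne_one hS (Or.inr one_ne_zero)) p.2
      (congrArg Subtype.val (MulAction.mem_stabilizer_iff.1 h))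
    have := congrArg Subtype.val (MulAction.mem_stabilizer_iff.1 (hp hg))
    rw [← hp']
    exact this
  · exfalso
    rw [stab_eq_normalizer hA] at hle
    have hg' : GoodTorus (torOf (⟨i, c⟩ : Idx A)) (eT i) := (hA.good i).map_conj _
    obtain ⟨a, ha, ha1⟩ := hg'.exists_ne_one
    haveI := Fact.mk Nat.prime_two
    have inv : ∀ b : F, b ≠ 0 → uniEl hS 0 b * a * (uniEl hS 0 b)⁻¹ = a⁻¹ := fun b hb =>
      hg'.inv_of_involution (hle (hZ (uniCenter_mem hS b)))
        (orderOf_eq_prime (by rw [pow_two]; exact center_sq hS (uniCenter_mem hS b))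
          (uniEl_ne_one hS (Or.inr hb))) ha
    obtain ⟨d, hd0, hd⟩ := exists_θ_ne hS
    have hd1 : 1 + d ≠ 0 := by
      have := hS.charP
      exact fun e => hd (by rw [← CharTwo.add_eq_zero.1 e, θ_one])
    have h3 := inv (1 + d) hd1
    rw [show uniEl hS 0 (1 + d) = uniEl hS 0 1 * uniEl hS 0 d by
      rw [uniEl_mul, θ_zero, zero_mul, add_zero, add_zero]] at h3
    have h3' : a = a⁻¹ := by
      rw [← h3, show uniEl hS 0 1 * uniEl hS 0 d * a * (uniEl hS 0 1 * uniEl hS 0 d)⁻¹ =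
        uniEl hS 0 1 * (uniEl hS 0 d * a * (uniEl hS 0 d)⁻¹) * (uniEl hS 0 1)⁻¹ by group, inv d hd0,
        ← conj_inv, inv 1 one_ne_zero, inv_inv]
    exact hg'.not_mem_of_pow_four ha1 (by
      rw [pow_succ, pow_succ, pow_two]; nth_rewrite 2 [h3']; rw [mul_inv_cancel, one_mul]
      nth_rewrite 2 [h3']; rw [mul_inv_cancel]) ha
  · exfalso
    have : Fact (Nat.Prime 2) := ⟨Nat.prime_two⟩
    let := Fintype.ofFinite (GaloisField 2 (2 * k + 1))
    have hK : SzField (GaloisField 2 (2 * k + 1)) k :=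
      ⟨hk, by rw [← Nat.card_eq_fintype_card]; exact GaloisField.card 2 _ (by omega)⟩
    obtain ⟨ι⟩ := exists_ringHom hS hK hdiv
    rw [← range_szHom hS hK ι] at e
    set φ := szHom hS hK ι
    have hle : conjS l (uniCenter hS) ≤ φ.range := e ▸ Subgroup.map_mono hZ
    set E := (conjS l (uniCenter hS)).comap φ
    have hEcard : Nat.card E = Fintype.card F := by
      rw [← card_uniCenter hS, ← card_conjS l (uniCenter hS), ← Subgroup.map_comap_eq_self hle]
      exact Nat.card_congr (E.equivMapOfInjective φ (szHom_injective hS hK ι)).toEquiv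
    have hsq : ∀ x ∈ E, x * x = 1 := by
      intro x hx
      apply szHom_injective hS hK ι
      rw [map_mul, map_one]
      have := center_sq hS (mem_conjS.1 (Subgroup.mem_comap.1 hx))
      calc φ x * φ x = l * ((l⁻¹ * φ x * l) * (l⁻¹ * φ x * l)) * l⁻¹ := by group
        _ = 1 := by rw [this]; group
    have hq := card_le_of_sq hK E hsq
    rw [hEcard, hK.card_eq, hS.card_eq, Nat.pow_le_pow_iff_right (by norm_num)] at hq
    obtain rfl : k = m := by
      have := Nat.le_of_dvd (by omega) hdiv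
      omega
    rw [range_szHom hS hK ι, fldSub_self hS] at e
    refine hne (Subgroup.eq_top_of_card_eq _ ?_)
    rw [← card_conjS l H]
    show Nat.card ↥(H.map _) = _
    rw [e, Subgroup.card_top]

/-- Below every non-trivial intersection of point stabilisers lies a centre. -/
theorem exists_center_le_int (hS : SzField F m) {H K : Subgroup (Cfsg.Sz F m)} (hb : IsBin H)
    (hK : IsInt H K) (h1 : K ≠ ⊥) : ∃ c, conjS c (uniCenter hS) ≤ K := by
  obtain ⟨P, hPK, hP, hP1, hmin⟩ := exists_minimal hK h1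
  obtain ⟨c, hc⟩ := exists_center_le hS (good_of_minimal hb hP hmin) hP1
  exact ⟨c, hc.trans hPK⟩

/-- An intersection containing the centre of `U` has no element with a torus part. -/
theorem torus_part_eq_one (hS : SzField F m) {H K : Subgroup (Cfsg.Sz F m)} (hb : IsBin H)
    (hne : H ≠ ⊤) (hK : IsInt H K) (hZ : uniCenter hS ≤ K) {a b : F} {μ : Fˣ}
    (h : uniEl hS a b * torSz hS μ ∈ K) : μ = 1 := by
  have := hS.charP
  by_contra hμ
  have hμ1 : (μ : F) + 1 ≠ 0 := fun e => hμ (Units.ext (CharTwo.add_eq_zero.1 e))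
  have hμθ : (μ : F) * θ m (μ : F) + 1 ≠ 0 := fun e => hμ (Units.ext (self_mul_θ_injective hS (by
    simp only [θ_one, mul_one, Units.val_one]; exact CharTwo.add_eq_zero.1 e)))
  obtain ⟨c, d, hcd⟩ : ∃ c d, uniEl hS c d * (uniEl hS ((μ : F) * c) ((μ : F) * θ m (μ : F) * d))⁻¹ =
      uniEl hS a b := by
    obtain ⟨c, hc⟩ : ∃ c, c * ((μ : F) + 1) = a := ⟨a / ((μ : F) + 1), by field_simp⟩
    obtain ⟨d, hd⟩ : ∃ d, d * ((μ : F) * θ m (μ : F) + 1) =
        b - θ m ((μ : F) * c) * ((μ : F) * c) - θ m c * ((μ : F) * c) :=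
      ⟨_ / ((μ : F) * θ m (μ : F) + 1), div_mul_cancel₀ _ hμθ⟩
    refine ⟨c, d, ?_⟩
    rw [uniEl_inv, uniEl_mul, uniEl_eq_iff]
    exact ⟨by linear_combination hc, by linear_combination hd⟩
  set v := uniEl hS c d
  have hv : uniEl hS a b * torSz hS μ = v * torSz hS μ * v⁻¹ := by
    rw [← hcd, ← torSz_conj_uniEl]; simp only [v]; group
  set K' := conjS v⁻¹ K with hK'def
  have hK' : IsInt H K' := hK.conj _
  have ht : torSz hS μ ∈ K' := by
    rw [hK'def, mem_conjS, inv_inv, ← hv]; exact h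
  have hZ' : uniCenter hS ≤ K' := by
    rintro _ ⟨e, rfl⟩
    rw [hK'def, mem_conjS, inv_inv]
    have : v * uniEl hS 0 e * v⁻¹ = uniEl hS 0 e := by
      rw [mul_inv_eq_iff_eq_mul, uniEl_mul, uniEl_mul, uniEl_eq_iff]
      simp [add_comm]
    rw [this]; exact hZ (uniCenter_mem hS e)
  set L := K' ⊓ conjS (weylEl hS) K' with hLdef
  have hW := weylEl_mul_self hS (F := F)
  have htL : torSz hS μ ∈ L := by
    refine Subgroup.mem_inf.2 ⟨ht, mem_conjS.2 ?_⟩
    rw [weylEl_inv, weylEl_conj_torSz, map_inv]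
    exact inv_mem ht
  obtain ⟨e, he⟩ := exists_center_le_int hS hb (hK'.inf (hK'.conj _))
    (ne_bot_of_mem htL fun e => hμ (torSz_injective hS (e.trans (map_one _).symm)))
  set z := e * uniEl hS 0 1 * e⁻¹ with hz
  have hzL : z ∈ L := he (mem_conjS.2 (by simpa [hz, mul_assoc] using uniCenter_mem hS (1 : F)))
  have hz1 : z ≠ 1 := by
    rw [hz, Ne, mul_inv_eq_one, mul_eq_left]
    exact uniEl_ne_one hS (Or.inr one_ne_zero)
  have hz2 : z * z = 1 := by
    rw [hz, show e * uniEl hS 0 1 * e⁻¹ * (e * uniEl hS 0 1 * e⁻¹) =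
      e * (uniEl hS 0 1 * uniEl hS 0 1) * e⁻¹ by group, center_sq hS (uniCenter_mem hS 1)]
    group
  have hfix : ∀ {g : Cfsg.Sz F m}, g ∈ K' →
      (g : SL4 F) • Cfsg.suzukiPointInfinity F = Cfsg.suzukiPointInfinity F :=
    fun {g} hg => fix_infinity hS (hK'.ne_top hne) hZ' hg
  obtain ⟨c₀, hc₀⟩ := fix_center hS hz2 (hfix (Subgroup.mem_inf.1 hzL).1)
  have hzw := hfix (mem_conjS.1 (Subgroup.mem_inf.1 hzL).2)
  rw [weylEl_inv, Subgroup.coe_mul, Subgroup.coe_mul, mul_smul, mul_smul,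
    CfsgLib.SuzukiCover.weylEl_smul_infinity] at hzw
  have h0 : (z : SL4 F) • Cfsg.suzukiPointZero F = Cfsg.suzukiPointZero F := by
    have := congrArg (fun p => ((weylEl hS : Cfsg.Sz F m) : SL4 F) • p) hzw
    simp only [CfsgLib.SuzukiCover.weylEl_smul_infinity, ← mul_smul] at this
    rwa [← mul_assoc, ← Subgroup.coe_mul, hW, Subgroup.coe_one, one_mul] at this
  rw [hc₀] at h0 hz1
  exact infinity_ne_zero (eq_infinity_of_uniEl_fix hS hz1 zero_mem h0).symm

/-- An intersection containing the centre of `U` equals it. -/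
theorem eq_center (hS : SzField F m) {H K : Subgroup (Cfsg.Sz F m)} (hb : IsBin H) (hne : H ≠ ⊤)
    (hK : IsInt H K) (hZ : uniCenter hS ≤ K) : K = uniCenter hS := by
  have := hS.charP
  refine le_antisymm (fun g hg => ?_) hZ
  have hKU : ∀ g ∈ K, g ∈ uniSub hS := by
    intro g hg
    obtain ⟨a, b, μ, rfl⟩ := pointStab_eq hS (fix_infinity hS (hK.ne_top hne) hZ hg)
    rw [torus_part_eq_one hS hb hne hK hZ hg, map_one, mul_one]
    exact uniEl_mem hS a b
  obtain ⟨a, b, rfl⟩ := hKU g hg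
  by_contra hgZ
  have ha : a ≠ 0 := fun e => hgZ (e ▸ uniCenter_mem hS b)
  -- rescale to `U(1, 0)`
  set t := torSz hS (Units.mk0 a⁻¹ (inv_ne_zero ha))
  set P := conjS t K with hPdef
  have hP : IsInt H P := hK.conj _
  have hPU : ∀ g ∈ P, g ∈ uniSub hS := by
    intro g hg
    rw [hPdef, mem_conjS] at hg
    obtain ⟨c, d, e⟩ := hKU _ hg
    rw [show g = t * (t⁻¹ * g * t) * t⁻¹ by group, e, torSz_conj_uniEl]
    exact uniEl_mem hS _ _
  have hZP : uniCenter hS ≤ P := by
    rintro _ ⟨e, rfl⟩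
    rw [hPdef, mem_conjS, ← map_inv (torSz hS)]
    refine hZ ?_
    have := torSz_conj_uniEl hS (Units.mk0 a⁻¹ (inv_ne_zero ha))⁻¹ 0 e
    rw [map_inv, inv_inv, mul_zero] at this
    rw [map_inv, show t⁻¹ * uniEl hS 0 e * t = _ from this]
    exact uniCenter_mem hS _
  obtain ⟨b', hb'⟩ : ∃ b', uniEl hS 1 b' ∈ P := ⟨_, by
    have := torSz_conj_uniEl hS (Units.mk0 a⁻¹ (inv_ne_zero ha)) a b
    rw [Units.val_mk0, inv_mul_cancel₀ ha] at this
    rw [← this]
    refine mem_conjS.2 ?_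
    simp only [t]
    simpa [mul_assoc] using hg⟩
  have h1e : ∀ e, uniEl hS 1 e ∈ P := fun e => by
    have := mul_mem hb' (hZP (uniCenter_mem hS (e - b')))
    rwa [uniEl_mul, add_zero, mul_zero, add_zero, add_sub_cancel] at this
  have hW := weylEl_mul_self hS (F := F)
  have hwn : ¬ ((weylEl hS : Cfsg.Sz F m) : SL4 F) • Cfsg.suzukiPointInfinity F =
      Cfsg.suzukiPointInfinity F := by
    rw [CfsgLib.SuzukiCover.weylEl_smul_infinity]; exact infinity_ne_zero.symm
  set x := uniEl hS 1 0 with hx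
  set r := weylEl hS * x with hr
  have hxfix : (x : SL4 F) • Cfsg.suzukiPointInfinity F = Cfsg.suzukiPointInfinity F :=
    uniEl_smul_infinity hS 1 0
  have hrn : ¬ (r : SL4 F) • Cfsg.suzukiPointInfinity F = Cfsg.suzukiPointInfinity F := by
    rw [hr, Subgroup.coe_mul, mul_smul, hxfix]; exact hwn
  have hr1 : r ≠ 1 := fun e => hrn (by rw [e]; exact one_smul _ _)
  have hTr : T r = 0 := by
    have := T_weyl_tor_uni hS (1 : Fˣ) 1 (0 : F)
    rw [map_one, mul_one] at this
    rw [hr, hx, this]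
    simp [szF, CharTwo.add_self_eq_zero]
  obtain ⟨q₀, hq₀⟩ : ∃ q₀, weylEl hS ∈ conjS q₀ P := by
    obtain ⟨k, c, hk⟩ := exists_conj_center hS hW
    exact ⟨k⁻¹, mem_conjS.2 (by rw [inv_inv]; exact hk ▸ hZP (uniCenter_mem hS c))⟩
  obtain ⟨r₀, hr₀⟩ : ∃ r₀, r ∈ conjS r₀ P := by
    rcases unip_cases hS hr1 hTr with hc | ⟨e, hc⟩
    · exact mem_conjS_of_isConj (hZP (uniCenter_mem hS 1)) hc.symm
    · exact mem_conjS_of_isConj (h1e e) hc.symm
  -- a non-trivial element of two conjugates forces the same point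
  have same : ∀ (g y : Cfsg.Sz F m), y ≠ 1 → y ∈ P → y ∈ conjS g P → ∀ z ∈ conjS g P,
      (z : SL4 F) • Cfsg.suzukiPointInfinity F = Cfsg.suzukiPointInfinity F := by
    intro g y hy1 hy hyg z hz
    obtain ⟨c, d, rfl⟩ := hPU y hy
    obtain ⟨c', d', h⟩ := hPU _ (mem_conjS.1 hyg)
    have hg : ((g⁻¹ : Cfsg.Sz F m) : SL4 F) • Cfsg.suzukiPointInfinity F =
        Cfsg.suzukiPointInfinity F :=
      fix_infinity_of_conj_mem hS hy1 (by rw [inv_inv, h]; exact uniEl_mem hS _ _)
    obtain ⟨c'', d'', h'⟩ := hPU _ (mem_conjS.1 hz)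
    have hg' : (g : SL4 F) • Cfsg.suzukiPointInfinity F = Cfsg.suzukiPointInfinity F := by
      conv_lhs => rw [← hg, ← mul_smul, ← Subgroup.coe_mul, mul_inv_cancel, Subgroup.coe_one, one_smul]
    rw [show z = g * (g⁻¹ * z * g) * g⁻¹ by group, h', Subgroup.coe_mul, Subgroup.coe_mul, mul_smul,
      mul_smul, hg, uniEl_val, uni_smul_infinity, hg']
  have hxR : x ∈ conjS r₀ P := criterion hb hP (hP.conj q₀) (hP.conj r₀) (by
      rw [Subgroup.eq_bot_iff_forall]
      rintro y ⟨hy, hy'⟩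
      by_contra hy1
      exact hwn (same q₀ y hy1 hy hy' _ hq₀))
    (h1e 0) hq₀ hr₀ (by rw [hr, ← mul_assoc, hW, one_mul])
  exact hrn (same r₀ x (uniEl_ne_one hS (Or.inl one_ne_zero)) (h1e 0) hxR r hr₀)

/-- The binary actions. -/
theorem isBin_iff (hS : SzField F m) {H : Subgroup (Cfsg.Sz F m)} (hne : H ≠ ⊤) :
    IsBin H ↔ H = ⊥ ∨ ∃ c, H = conjS c (uniCenter hS) := by
  constructor
  · intro hb
    by_cases h1 : H = ⊥
    · exact Or.inl h1
    right
    obtain ⟨c, hc⟩ := exists_center_le_int hS hb (IsInt.self H) h1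
    refine ⟨c, ?_⟩
    have h := eq_center hS hb hne ((IsInt.self H).conj c⁻¹) (fun y hy => by
      rw [mem_conjS, inv_inv]
      exact hc (mem_conjS.2 (by simpa [mul_assoc] using hy)))
    rw [← h]
    ext y
    simp [mem_conjS, mul_assoc]
  · rintro (rfl | ⟨c, rfl⟩)
    · exact isBin_bot
    · have := (good_center hS).conj c
      exact isBin_of_triangleFree this.ti this.nt

/-- Transport along an isomorphism. -/
theorem isBin_map {G G' : Type*} [Group G] [Group G'] (e : G ≃* G') {H : Subgroup G}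
    (hb : IsBin H) : IsBin (H.map e.toMonoidHom) := by
  intro n I J hn hp
  choose a ha using fun i => QuotientGroup.mk_surjective (I i)
  choose b hb' using fun i => QuotientGroup.mk_surjective (J i)
  have tr : ∀ (g : G') (i : Fin n),
      g • I i = J i ↔ e.symm g • ((e.symm (a i) : G) : G ⧸ H) = ((e.symm (b i) : G) : G ⧸ H) := by
    intro g i
    rw [← ha i, ← hb' i, smul_coset, smul_coset, QuotientGroup.eq, QuotientGroup.eq,
      Subgroup.mem_map_equiv, map_mul, map_inv, map_mul]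
  obtain ⟨g, hg⟩ := hb n (fun i => (e.symm (a i) : G ⧸ H)) (fun i => (e.symm (b i) : G ⧸ H)) hn
    fun i j hij => by
      obtain ⟨g, h1, h2⟩ := hp i j hij
      exact ⟨e.symm g, (tr g i).1 h1, (tr g j).1 h2⟩
  exact ⟨e g, fun i => (tr _ i).2 (by simpa using hg i)⟩

/-- The centres of the Sylow 2-subgroups are the conjugates of `uniCenter`. -/
theorem center_sylow_iff (hS : SzField F m) (H : Subgroup (Cfsg.Sz F m)) :
    (∃ c, H = conjS c (uniCenter hS)) ↔
      ∃ P : Sylow 2 (Cfsg.Sz F m), H = (Subgroup.center (P : Subgroup (Cfsg.Sz F m))).map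
        (P : Subgroup (Cfsg.Sz F m)).subtype := by
  haveI := Fact.mk Nat.prime_two
  have key : ∀ (c : Cfsg.Sz F m) (S : Subgroup (Cfsg.Sz F m)),
      S = (uniSub hS).map (MulAut.conj c).toMonoidHom →
      (Subgroup.center S).map S.subtype = conjS c (uniCenter hS) := by
    rintro c S rfl
    ext y
    rw [mem_conjS]
    constructor
    · rintro ⟨⟨z, hzS⟩, hz, rfl⟩
      obtain ⟨u, hu, rfl⟩ := hzS
      have : (⟨u, hu⟩ : uniSub hS) ∈ Subgroup.center (uniSub hS) := by
        rw [Subgroup.mem_center_iff]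
        rintro ⟨v, hv⟩
        have := congrArg Subtype.val (Subgroup.mem_center_iff.1 hz ⟨_, v, hv, rfl⟩)
        apply Subtype.ext
        simp only [Subgroup.coe_mul, MulEquiv.coe_toMonoidHom, MulAut.conj_apply] at this ⊢
        calc v * u = c⁻¹ * ((c * v * c⁻¹) * (c * u * c⁻¹)) * c := by group
          _ = c⁻¹ * ((c * u * c⁻¹) * (c * v * c⁻¹)) * c := by rw [this]
          _ = _ := by group
      rw [mem_center_iff hS] at this
      show c⁻¹ * (c * u * c⁻¹) * c ∈ uniCenter hS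
      rw [show c⁻¹ * (c * u * c⁻¹) * c = u by group]
      exact this
    · intro hy
      have hu : c⁻¹ * y * c ∈ uniSub hS := uniCenter_le hS hy
      refine ⟨⟨y, c⁻¹ * y * c, hu, by simp [mul_assoc]⟩, ?_, rfl⟩
      rw [SetLike.mem_coe, Subgroup.mem_center_iff]
      rintro ⟨_, v, hv, rfl⟩
      have := congrArg Subtype.val
        (Subgroup.mem_center_iff.1 ((mem_center_iff hS ⟨_, hu⟩).2 hy) ⟨v, hv⟩)
      apply Subtype.ext
      simp only [Subgroup.coe_mul, MulEquiv.coe_toMonoidHom, MulAut.conj_apply] at this ⊢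
      calc c * v * c⁻¹ * y = c * (v * (c⁻¹ * y * c)) * c⁻¹ := by group
        _ = c * (c⁻¹ * y * c * v) * c⁻¹ := by rw [this]
        _ = _ := by group
  constructor
  · rintro ⟨c, rfl⟩
    refine ⟨c • uniSylow hS, (key c _ ?_).symm⟩
    rw [Sylow.coe_subgroup_smul, uniSylow_coe hS]
    rfl
  · rintro ⟨P, rfl⟩
    obtain ⟨k, hk⟩ := exists_conj_sylow hS P
    exact ⟨k, key k _ hk⟩

/-- The centre of an image. -/
theorem map_center {G₁ G₂ : Type*} [Group G₁] [Group G₂] (f : G₁ ≃* G₂) (S : Subgroup G₁) :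
    ((Subgroup.center S).map S.subtype).map f.toMonoidHom =
      (Subgroup.center ↥(S.map f.toMonoidHom)).map (S.map f.toMonoidHom).subtype := by
  ext y
  constructor
  · rintro ⟨_, ⟨z, hz, rfl⟩, rfl⟩
    refine ⟨⟨f z.1, z.1, z.2, rfl⟩, ?_, rfl⟩
    rw [SetLike.mem_coe, Subgroup.mem_center_iff]
    rintro ⟨_, v, hv, rfl⟩
    have := congrArg Subtype.val (Subgroup.mem_center_iff.1 hz ⟨v, hv⟩)
    apply Subtype.ext
    simp only [Subgroup.coe_mul, MulEquiv.coe_toMonoidHom] at this ⊢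
    rw [← map_mul, this, map_mul]
  · rintro ⟨⟨_, v, hv, rfl⟩, hz, rfl⟩
    refine ⟨v, ⟨⟨v, hv⟩, ?_, rfl⟩, rfl⟩
    rw [SetLike.mem_coe, Subgroup.mem_center_iff]
    rintro ⟨w, hw⟩
    have := congrArg Subtype.val (Subgroup.mem_center_iff.1 hz ⟨_, w, hw, rfl⟩)
    simp only [Subgroup.coe_mul, MulEquiv.coe_toMonoidHom] at this
    apply Subtype.ext
    apply f.injective
    simp only [Subgroup.coe_mul, map_mul]
    exact this

/-- The same in an isomorphic group. -/
theorem isBin_iff_of_equiv (hS : SzField F m) {G : Type*} [Group G] (e : Cfsg.Sz F m ≃* G)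
    {H : Subgroup G} (hne : H ≠ ⊤) :
    IsBin H ↔ H = ⊥ ∨ ∃ P : Sylow 2 G,
      H = (Subgroup.center (P : Subgroup G)).map (P : Subgroup G).subtype := by
  haveI := Fact.mk Nat.prime_two
  haveI : Finite G := Finite.of_equiv _ e.toEquiv
  set H₀ := H.map e.symm.toMonoidHom with hH₀
  have hback : H₀.map e.toMonoidHom = H := by
    rw [hH₀, Subgroup.map_map]; ext; simp
  have hne₀ : H₀ ≠ ⊤ := fun h => hne (by
    rw [← hback, h, Subgroup.map_top_of_surjective _ e.surjective])
  have hbin : IsBin H ↔ IsBin H₀ :=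
    ⟨fun h => isBin_map e.symm h, fun h => hback ▸ isBin_map e h⟩
  rw [hbin, isBin_iff hS hne₀, center_sylow_iff hS]
  refine or_congr ?_ ?_
  · constructor
    · intro h; rw [← hback, h, Subgroup.map_bot]
    · intro h; rw [hH₀, h, Subgroup.map_bot]
  · constructor
    · rintro ⟨P, h⟩
      refine ⟨P.mapSurjective (f := e.toMonoidHom) e.surjective, ?_⟩
      rw [← hback, h]
      exact map_center e _
    · rintro ⟨P, h⟩
      refine ⟨P.mapSurjective (f := e.symm.toMonoidHom) e.symm.surjective, ?_⟩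
      rw [hH₀, h]
      exact map_center e.symm _

end CfsgLib.SuzukiBinary
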