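import Cfsg.Agent.SuzukiBinary.Trace
import Cfsg.Agent.SuzukiSub.Classification
import Cfsg.Agent.DicksonPSL2.BinaryCriterion

/-!
# Triangle-free TI subgroups of the Suzuki group

Such a subgroup, if proper and non-trivial, contains the centre of a Sylow 2-subgroup, and these
centres are themselves of this kind.
-/

set_option autoImplicit false
set_option linter.unusedSectionVars false

namespace CfsgLib.SuzukiBinary

open CfsgLib.Suzuki CfsgLib.SuzukiLocal CfsgLib.SuzukiCover CfsgLib.SuzukiSub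
open CfsgLib.DicksonPSL2 (conjS mem_conjS card_conjS)
open CfsgLib.DicksonPSL2.Binary

local notation "SL4" F:max => Matrix.SpecialLinearGroup (Fin 4) F

variable {F : Type*} [Field F] [Fintype F] {m : ℕ}

theorem mem_conjS_of_isConj {H : Subgroup (Cfsg.Sz F m)} {x y : Cfsg.Sz F m} (hx : x ∈ H)
    (h : IsConj x y) : ∃ a, y ∈ conjS a H := by
  obtain ⟨a, rfl⟩ := isConj_iff.1 h
  exact ⟨a, mem_conjS.2 (by simpa [mul_assoc] using hx)⟩

theorem center_sq (hS : SzField F m) {x : Cfsg.Sz F m} (hx : x ∈ uniCenter hS) : x * x = 1 := by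
  obtain ⟨b, rfl⟩ := hx
  rw [uniEl_sq, θ_zero, zero_mul, uniEl_zero]

theorem ne_zero_of_ne_one (hS : SzField F m) {b : F} (h : uniEl hS 0 b ≠ 1) : b ≠ 0 := fun e =>
  h (by rw [e, uniEl_zero])

theorem uniEl_ne_one (hS : SzField F m) {a b : F} (h : a ≠ 0 ∨ b ≠ 0) : uniEl hS a b ≠ 1 := by
  rw [← uniEl_zero hS, Ne, uniEl_eq_iff]
  tauto

/-- The centre of a Sylow 2-subgroup is TI and triangle-free. -/
theorem good_center (hS : SzField F m) : Good (uniCenter hS : Subgroup (Cfsg.Sz F m)) := by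
  constructor
  · intro g x hx hxg hx1
    rw [mem_conjS] at hxg
    obtain ⟨b, rfl⟩ := hx
    have hfix := fix_infinity_of_conj_mem hS (k := g⁻¹) hx1
      (by rw [inv_inv]; exact uniCenter_le hS hxg)
    obtain ⟨c, d, μ, he⟩ := pointStab_eq hS hfix
    refine Subgroup.eq_of_le_of_card_ge (fun y hy => ?_) (card_conjS _ _).ge
    rw [mem_conjS, show g = (g⁻¹)⁻¹ from (inv_inv g).symm, inv_inv g⁻¹, he] at hy
    obtain ⟨e, hy⟩ := hy
    refine ⟨((μ : F) * θ m (μ : F))⁻¹ * e, ?_⟩
    have h := conj_uniCenter hS c d μ (((μ : F) * θ m (μ : F))⁻¹ * e)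
    rw [← mul_assoc ((μ : F) * θ m (μ : F)), mul_inv_cancel₀ (mul_ne_zero μ.ne_zero
      (fun e => μ.ne_zero (θ_eq_zero.1 e))), one_mul, ← hy] at h
    exact (mul_right_injective _ (mul_left_injective _ h)).symm
  · intro x hx hx1 a b y hy hxy
    have sq : ∀ a z, z ∈ conjS a (uniCenter hS) → z * z = 1 := by
      intro a z hz
      have := center_sq hS (mem_conjS.1 hz)
      calc z * z = a * ((a⁻¹ * z * a) * (a⁻¹ * z * a)) * a⁻¹ := by group
        _ = 1 := by rw [this]; group
    have h1 := sq a y hy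
    have h3 := sq b _ hxy
    have h2 := center_sq hS hx
    have hcomm : y * x = x * y := by
      calc y * x = (x * x) * (y * x) * (y * y) := by rw [h2, h1, one_mul, mul_one]
        _ = x * (x * y * (x * y)) * y := by group
        _ = x * y := by rw [h3, mul_one]
    obtain ⟨c, rfl⟩ := hx
    obtain ⟨e, he⟩ := mem_uniCenter_of_sq hS
      (centralizer_uniEl_le hS hx1 (Subgroup.mem_centralizer_singleton_iff.2 hcomm)) h1
    exact ⟨e, he⟩

/-- A triangle-free subgroup with a central involution contains the whole centre. -/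
theorem center_le_of_good (hS : SzField F m) {P : Subgroup (Cfsg.Sz F m)} (hP : Good P) {b : F}
    (hb : b ≠ 0) (hx : uniEl hS 0 b ∈ P) : uniCenter hS ≤ P := by
  rintro _ ⟨c, rfl⟩
  rcases eq_or_ne c 0 with rfl | hc
  · rw [uniEl_zero]; exact one_mem _
  rcases eq_or_ne c b with rfl | hcb
  · exact hx
  have hbc : b + c ≠ 0 := by
    have := hS.charP
    exact fun e => hcb (CharTwo.add_eq_zero.1 e).symm
  obtain ⟨a, ha⟩ := mem_conjS_of_isConj hx ((isConj_involution hS hb).trans (isConj_involution hS hc).symm)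
  obtain ⟨a', ha'⟩ := mem_conjS_of_isConj hx ((isConj_involution hS hb).trans (isConj_involution hS hbc).symm)
  refine hP.nt _ hx (uniEl_ne_one hS (Or.inr hb)) a a' _ ha ?_
  rwa [uniEl_mul, θ_zero, zero_mul, add_zero, add_zero]

/-- No triangle-free subgroup of odd order. -/
theorem even_of_good (hS : SzField F m) {P : Subgroup (Cfsg.Sz F m)} (hP : Good P) (h1 : P ≠ ⊥) :
    ∃ x ∈ P, orderOf x = 2 := by
  classical
  by_contra! hodd
  obtain ⟨x₀, hx₀, hx₁⟩ := (Subgroup.bot_or_exists_ne_one P).resolve_left h1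
  have h4 : ∀ y ∈ P, y ≠ 1 → y ^ 4 ≠ 1 := by
    intro y hy hy1 hy4
    by_cases h2 : y ^ 2 = 1
    · haveI := Fact.mk Nat.prime_two
      exact hodd y hy (orderOf_eq_prime h2 hy1)
    · haveI := Fact.mk Nat.prime_two
      exact hodd _ (pow_mem hy 2) (orderOf_eq_prime (by rw [← pow_mul]; exact hy4) h2)
  have hT : T x₀ ≠ 0 := by
    intro hT
    obtain ⟨a, b, hc⟩ := isUnip_of_T_eq hS hT
    obtain ⟨k, hk⟩ := isConj_iff.1 hc
    have h := pow_four_of_mem_uniSub hS (hk ▸ uniEl_mem hS a b : k * x₀ * k⁻¹ ∈ uniSub hS)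
    rw [conj_pow, mul_inv_eq_one, mul_eq_left] at h
    exact h4 _ hx₀ hx₁ h
  obtain ⟨B, hB, hc⟩ := exists_canon hS (not_isUnip_of_T_ne hS hT)
  obtain ⟨k, hk⟩ := isConj_iff.1 hc
  have hP' := hP.conj k
  set P' := conjS k P with hP'def
  set x : Cfsg.Sz F m := canon hS B with hxdef
  have hx : x ∈ P' := by rw [← hk]; exact mem_conjS.2 (by simpa [mul_assoc] using hx₀)
  have hTx : T x = θ m B := T_canon hS B
  have hTx0 : T x ≠ 0 := by rw [hTx]; exact fun e => hB (θ_eq_zero.1 e)
  have hx1 : x ≠ 1 := fun e => hTx0 (by rw [e, T_one hS])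
  have h4' : ∀ y ∈ P', y ≠ 1 → y ^ 4 ≠ 1 := by
    intro y hy hy1 hy4
    rw [hP'def, mem_conjS] at hy
    refine h4 _ hy (fun e => hy1 ?_) ?_
    · calc y = k * (k⁻¹ * y * k) * k⁻¹ := by group
        _ = 1 := by rw [e]; group
    · calc (k⁻¹ * y * k) ^ 4 = k⁻¹ * y ^ 4 * k := by simp [pow_succ, mul_assoc]
        _ = 1 := by rw [hy4]; group
  obtain ⟨A, hA⟩ := exists_tori hS
  obtain ⟨⟨i, c⟩, hle⟩ := odd_case hA
    (fun e : P' = ⊥ => hx1 (by rw [e, Subgroup.mem_bot] at hx; exact hx))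
    (fun u hu h2 => h4' u hu (fun e => by rw [e, orderOf_one] at h2; omega)
      (orderOf_dvd_iff_pow_eq_one.1 (by rw [h2]; norm_num)))
  rw [stab_eq_normalizer hA] at hle
  set A' := torOf (⟨i, c⟩ : Idx A) with hA'
  have hg : GoodTorus A' (eT i) := (hA.good i).map_conj _
  have hPA : ∀ y ∈ P', y ∈ A' := fun y hy => by
    by_cases hy1 : y = 1
    · rw [hy1]; exact one_mem _
    · exact hg.mem_of_mem_normalizer (hle hy) (h4' y hy hy1)
  -- five conjugates of `x` in `A'`
  obtain ⟨R, hR⟩ := (pow_two_pow_bijective hS 1).2 (θ m B)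
  simp only [pow_one] at hR
  have hR0 : R ≠ 0 := fun e => hB (θ_eq_zero.1 (by rw [← hR, e]; ring))
  obtain ⟨f, hf, hfR⟩ := exists_points hS hR0
  let s : Fin 5 → Cfsg.Sz F m := fun j =>
    uniEl hS (f j).1 (f j).2 * lowI hS * (uniEl hS (f j).1 (f j).2)⁻¹
  let y : Fin 5 → Cfsg.Sz F m := fun j => uniEl hS 0 B * s j
  have hTy : ∀ j, T (y j) = T x := fun j => by rw [hTx]; exact T_center_conj hS B _ _
  have hxy : ∀ j, T (x * y j) = T x := by
    intro j
    have e : x * y j = lowI hS * s j := by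
      simp only [hxdef, canon, lowI, y]
      rw [← mul_assoc, mul_assoc (weylEl hS * uniEl hS 0 1 * weylEl hS) (uniEl hS 0 B),
        center_sq hS (uniCenter_mem hS B), mul_one]
    rw [e, hTx, ← hR, ← hfR j]
    exact T_lowI_conj hS _ _
  have hconj : ∀ j, IsConj x (y j) := fun j => isConj_of_T hS hTx0 (hTy j).symm
  have hyP : ∀ j, y j ∈ P' := fun j => by
    obtain ⟨a, ha⟩ := mem_conjS_of_isConj hx (hconj j)
    obtain ⟨a', ha'⟩ := mem_conjS_of_isConj hx (isConj_of_T hS hTx0 (hxy j).symm)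
    exact hP'.nt x hx hx1 a a' _ ha ha'
  choose g hg' using fun j => isConj_iff.1 (hconj j)
  have hgN : ∀ j, g j ∈ Subgroup.normalizer (A' : Set (Cfsg.Sz F m)) := fun j =>
    hg.mem_normalizer_of_conj_mem (hPA x hx) hx1 (by rw [hg' j]; exact hPA _ (hyP j))
  set N := Subgroup.normalizer (A' : Set (Cfsg.Sz F m))
  let q : Fin 5 → ↥N ⧸ A'.subgroupOf N := fun j => ((⟨g j, hgN j⟩ : N) : ↥N ⧸ A'.subgroupOf N)
  have hq : Function.Injective q := by
    intro j j' h
    rw [QuotientGroup.eq, Subgroup.mem_subgroupOf] at h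
    simp only [Subgroup.coe_mul, Subgroup.coe_inv] at h
    have hyy : y j = y j' := by
      have hc' := hg.comm h (hPA x hx)
      rw [← hg' j, ← hg' j']
      calc g j * x * (g j)⁻¹ = g j * (x * ((g j)⁻¹ * g j')) * (g j')⁻¹ := by group
        _ = g j * (((g j)⁻¹ * g j') * x) * (g j')⁻¹ := by rw [hc']
        _ = _ := by group
    have hss : s j = s j' := mul_left_cancel hyy
    apply hf
    set u := uniEl hS (f j).1 (f j).2
    set u' := uniEl hS (f j').1 (f j').2
    set v := u⁻¹ * u' with hv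
    have hvU : v ∈ uniSub hS := mul_mem (inv_mem (uniEl_mem hS _ _)) (uniEl_mem hS _ _)
    have hvI : lowI hS * v = v * lowI hS := by
      calc lowI hS * v = u⁻¹ * (u * lowI hS * u⁻¹) * u' := by rw [hv]; group
        _ = u⁻¹ * (u' * lowI hS * u'⁻¹) * u' := by rw [show u * lowI hS * u⁻¹ = u' * lowI hS * u'⁻¹ from hss]
        _ = _ := by rw [hv]; group
    have hW := weylEl_mul_self hS (F := F)
    have hwv : weylEl hS * v * weylEl hS ∈ uniSub hS := by
      refine centralizer_uniEl_le hS (uniEl_ne_one hS (a := 0) (b := 1) (Or.inr one_ne_zero))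
        (Subgroup.mem_centralizer_singleton_iff.2 ?_)
      calc weylEl hS * v * weylEl hS * uniEl hS 0 1
          = weylEl hS * v * (weylEl hS * uniEl hS 0 1 * weylEl hS) * weylEl hS := by
            simp only [mul_assoc, hW, mul_one]
        _ = weylEl hS * (lowI hS * v) * weylEl hS := by rw [hvI]; simp only [lowI]; group
        _ = (weylEl hS * weylEl hS) * uniEl hS 0 1 * (weylEl hS * v * weylEl hS) := by
            simp only [lowI]; group
        _ = _ := by rw [hW, one_mul]
    obtain ⟨a, b, hab⟩ := hvU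
    obtain ⟨c', d, hcd⟩ := hwv
    have h0 : (v : SL4 F) • Cfsg.suzukiPointZero F = Cfsg.suzukiPointZero F := by
      have e : v = weylEl hS * uniEl hS c' d * weylEl hS := by
        rw [← hcd]; simp only [mul_assoc]; rw [hW, mul_one, ← mul_assoc, hW, one_mul]
      rw [e, Subgroup.coe_mul, Subgroup.coe_mul]
      show (weyl * uni m c' d * weyl) • _ = _
      rw [mul_smul, mul_smul, weyl_smul_zero, uni_smul_infinity, weyl_smul_infinity]
    have hv1 : v = 1 := by
      rw [hab]
      by_contra hne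
      rw [hab] at h0
      exact infinity_ne_zero (eq_infinity_of_uniEl_fix hS hne zero_mem h0).symm
    rw [hv, inv_mul_eq_one, uniEl_eq_iff] at hv1
    exact Prod.ext hv1.1 hv1.2
  have hc5 := Nat.card_le_card_of_injective q hq
  rw [Nat.card_fin] at hc5
  have hidx : Nat.card (↥N ⧸ A'.subgroupOf N) = eT i := by
    have h := Subgroup.card_eq_card_quotient_mul_card_subgroup (A'.subgroupOf N)
    rw [Nat.card_congr (Subgroup.subgroupOfEquivOfLe Subgroup.le_normalizer).toEquiv,
      hg.card_normalizer] at h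
    exact (Nat.eq_of_mul_eq_mul_right Nat.card_pos h).symm
  rw [hidx] at hc5
  rcases hg.index_cases with e | e <;> omega

/-- A proper non-trivial triangle-free subgroup contains the centre of a Sylow 2-subgroup. -/
theorem exists_center_le (hS : SzField F m) {P : Subgroup (Cfsg.Sz F m)} (hP : Good P) (h1 : P ≠ ⊥) :
    ∃ c, conjS c (uniCenter hS) ≤ P := by
  obtain ⟨x, hx, hx2⟩ := even_of_good hS hP h1
  obtain ⟨k, c, hk⟩ := exists_conj_center hS (s := x) (by
    rw [← pow_two]; exact orderOf_dvd_iff_pow_eq_one.1 (dvd_of_eq hx2))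
  have hc : c ≠ 0 := fun e => by
    rw [e, uniEl_zero, mul_inv_eq_one, mul_eq_left] at hk
    rw [hk, orderOf_one] at hx2; omega
  refine ⟨k⁻¹, fun y hy => ?_⟩
  have h := center_le_of_good hS (hP.conj k) hc (hk ▸ mem_conjS.2 (by simpa [mul_assoc] using hx))
    (mem_conjS.1 hy)
  rw [mem_conjS] at h
  simpa [mul_assoc] using h

end CfsgLib.SuzukiBinary
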