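import Cfsg.Agent.SuzukiCover.Cover

/-!
# Three involutions of the Suzuki group with prescribed pairwise trace

`T (I · u I u⁻¹) = f(a, b) ^ 2` for `u = U(a, b)` and `I = W U(0,1) W`, and every non-zero value
of the ovoid form `f` is taken at five or more points.
-/

set_option autoImplicit false
set_option linter.unusedSectionVars false
set_option linter.unusedSimpArgs false

namespace CfsgLib.SuzukiBinary

open CfsgLib.Suzuki CfsgLib.SuzukiLocal CfsgLib.SuzukiCover

local notation "SL4" F:max => Matrix.SpecialLinearGroup (Fin 4) F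

variable {F : Type*} [Field F] [Fintype F] {m : ℕ}

/-- The involution `W U(0,1) W` of the lower unipotent group. -/
def lowI (hS : SzField F m) : Cfsg.Sz F m := weylEl hS * uniEl hS 0 1 * weylEl hS

theorem lowI_val (hS : SzField F m) :
    ((lowI hS : SL4 F) : Matrix (Fin 4) (Fin 4) F) = !![1, 0, 0, 0; 0, 1, 0, 0; 1, 0, 1, 0; 1, 1, 0, 1] := by
  simp only [lowI, Subgroup.coe_mul, Matrix.SpecialLinearGroup.coe_mul, uniEl_val, uni_val]
  rw [show (((weylEl hS : Cfsg.Sz F m) : SL4 F) : Matrix (Fin 4) (Fin 4) F) = weylMat from rfl]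
  ext i j
  fin_cases i <;> fin_cases j <;>
    simp [Matrix.mul_apply, Fin.sum_univ_succ, weylMat, uniMat, szF]

theorem T_lowI_conj (hS : SzField F m) (a b : F) :
    T (lowI hS * (uniEl hS a b * lowI hS * (uniEl hS a b)⁻¹)) = szF m a b ^ 2 := by
  have h2 := hS.two_eq_zero
  simp only [T, Subgroup.coe_mul, Matrix.SpecialLinearGroup.coe_mul, lowI_val, uniEl_inv, uniEl_val,
    uni_val]
  simp [Matrix.trace, Matrix.diag, Matrix.mul_apply, Fin.sum_univ_succ, uniMat, szF, θ_add hS,
    θ_mul, θ_θ hS]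
  ring_nf
  linear_combination (2 + b * a ^ 3 * θ m a + b * θ m b * 2 + b ^ 2 + b ^ 2 * a * 2 +
    a * θ m a * θ m b * 2 + a ^ 2 * θ m a * θ m b + a ^ 4 * θ m a ^ 2 + θ m a * θ m b + θ m b * 2 +
    b * 4 + b * a * 4 + b * a * θ m a * 3 + b * a ^ 2 * θ m a * 6 + a * θ m a * 6 +
    a ^ 2 * θ m a * 6 + a ^ 2 * θ m a ^ 2 * 3 + a ^ 3 * θ m a ^ 2 * 3) * h2

theorem T_center_conj (hS : SzField F m) (B a b : F) :
    T (uniEl hS 0 B * (uniEl hS a b * lowI hS * (uniEl hS a b)⁻¹)) = θ m B := by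
  have hc : uniEl hS a b * uniEl hS 0 B = uniEl hS 0 B * uniEl hS a b := by
    rw [uniEl_mul, uniEl_mul, uniEl_eq_iff]
    exact ⟨add_comm _ _, by simp [add_comm]⟩
  rw [show uniEl hS 0 B * (uniEl hS a b * lowI hS * (uniEl hS a b)⁻¹) =
    uniEl hS a b * (uniEl hS 0 B * lowI hS) * (uniEl hS a b)⁻¹ by
      rw [← mul_assoc (uniEl hS a b) (uniEl hS 0 B), hc]; group, T_conj, T_mul_comm]
  exact T_canon hS B

/-- Every non-zero value of `szF` is taken at five distinct points. -/
theorem exists_points (hS : SzField F m) {R : F} (hR : R ≠ 0) :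
    ∃ f : Fin 5 → F × F, Function.Injective f ∧ ∀ i, szF m (f i).1 (f i).2 = R := by
  classical
  have := hS.charP
  have key : ∀ l : {l : F // l ∉ evenSub hS}, ∃ κ η : F, κ ≠ 0 ∧ θ m κ = R / l.1 ∧
      ∀ i : Bool, szF m (θ m κ / κ) (κ * (η + if i then 1 else 0)) = R := by
    rintro ⟨l, hl⟩
    obtain ⟨κ, hκ⟩ := θ_surjective hS (R / l)
    obtain ⟨η, hη⟩ := exists_of_notMem hS hl
    have hl0 : l ≠ 0 := fun h => hl (h ▸ zero_mem _)
    have hκ0 : κ ≠ 0 := fun h => div_ne_zero hR hl0 (by rw [← hκ, h, θ_zero])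
    have hθκ : θ m κ ≠ 0 := fun h => hκ0 (θ_eq_zero.1 h)
    refine ⟨κ, η, hκ0, hκ, fun i => ?_⟩
    have hh : θ m (η + if i then 1 else 0) + (η + if i then 1 else 0) + 1 = l := by
      cases i
      · simpa using hη
      · simp only [if_true, θ_add hS, θ_one]; linear_combination hη + hS.two_eq_zero
    have e : szF m (θ m κ / κ) (κ * (η + if i then 1 else 0)) =
        θ m κ * (θ m (η + if i then 1 else 0) + (η + if i then 1 else 0) + 1) := by
      simp only [szF, θ_mul, div_eq_mul_inv, θ_inv, θ_θ hS]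
      field_simp
      ring
    rw [e, hh, hκ]
    field_simp
  choose κ η hκ0 hκ hval using key
  let g : {l : F // l ∉ evenSub hS} × Bool → F × F := fun x =>
    (θ m (κ x.1) / κ x.1, κ x.1 * (η x.1 + if x.2 then 1 else 0))
  have hg : Function.Injective g := by
    rintro ⟨l, i⟩ ⟨l', i'⟩ h
    simp only [g, Prod.mk.injEq] at h
    have hk : κ l = κ l' := by
      have e : θ m (κ l / κ l') = κ l / κ l' := by
        have h1 := h.1
        rw [div_eq_div_iff (hκ0 l) (hκ0 l')] at h1
        rw [div_eq_mul_inv, θ_mul, θ_inv, ← div_eq_mul_inv, ← div_eq_mul_inv,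
          div_eq_div_iff (fun h => hκ0 l' (θ_eq_zero.1 h)) (hκ0 l')]
        linear_combination h1
      rcases θ_fixed hS e with e | e
      · exact absurd e (div_ne_zero (hκ0 l) (hκ0 l'))
      · exact (div_eq_one_iff_eq (hκ0 l')).1 e
    have hl : l = l' := by
      refine Subtype.ext ?_
      have := (hκ l).symm.trans (hk ▸ hκ l')
      have hl0 : ∀ l : {l : F // l ∉ evenSub hS}, l.1 ≠ 0 := fun l h => l.2 (h ▸ zero_mem _)
      rw [div_eq_div_iff (hl0 l) (hl0 l')] at this
      exact (mul_left_cancel₀ hR this).symm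
    subst hl
    have h2 := add_left_cancel (mul_left_cancel₀ (hκ0 l) h.2)
    refine Prod.ext rfl ?_
    cases i <;> cases i' <;> simp at h2 ⊢
  have hcard : 5 ≤ Nat.card ({l : F // l ∉ evenSub hS} × Bool) := by
    have h1 := (evenSub hS).card_mul_index
    rw [index_evenSub hS, Nat.card_eq_fintype_card (α := F)] at h1
    have h2 : Nat.card {l : F // l ∈ evenSub hS} + Nat.card {l : F // l ∉ evenSub hS} = Fintype.card F := by
      rw [← Nat.card_sum, Nat.card_congr (Equiv.sumCompl _), Nat.card_eq_fintype_card]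
    change Nat.card {l : F // l ∈ evenSub hS} * 2 = _ at h1
    rw [Nat.card_prod, Nat.card_eq_fintype_card (α := Bool), Fintype.card_bool]
    have := hS.eight_le
    omega
  let _ := Fintype.ofFinite ({l : F // l ∉ evenSub hS} × Bool)
  obtain ⟨j⟩ : Nonempty (Fin 5 ↪ {l : F // l ∉ evenSub hS} × Bool) :=
    Function.Embedding.nonempty_of_card_le (by
      rw [Fintype.card_fin, ← Nat.card_eq_fintype_card]; exact hcard)
  exact ⟨g ∘ j, hg.comp j.injective, fun i => hval (j i).1 (j i).2⟩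

end CfsgLib.SuzukiBinary
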